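import Groth.Agent.L04.GabLoc.Envelope
import Groth.Prelude.Def_W4c5qcohlocdualityLoc
import Mathlib.CategoryTheory.Abelian.Exact

/-! Closed objects for localizing classes. -/

set_option autoImplicit false

universe w v u

open CategoryTheory CategoryTheory.Limits

namespace Groth.L04.GabLoc

variable {C : Type u} [Category.{v} C] [Abelian C]

/-- Objects without non-zero maps to `E₀` and `E₁`. -/
def orth (E₀ E₁ : C) : ObjectProperty C :=
  fun Y => (∀ f : Y ⟶ E₀, f = 0) ∧ ∀ f : Y ⟶ E₁, f = 0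

theorem isLocalizing_orth (E₀ E₁ : C) [Injective E₀] [Injective E₁] :
    _root_.GabLoc.IsLocalizing.{w} (orth E₀ E₁) where
  isSerreClass := by
    haveI : (orth E₀ E₁).ContainsZero :=
      ⟨⟨_, isZero_zero C, fun f => (isZero_zero C).eq_of_src _ _, fun f => (isZero_zero C).eq_of_src _ _⟩⟩
    have sub : ∀ (E : C) [Injective E] {X Y : C} (f : X ⟶ Y) [Mono f],
        (∀ g : Y ⟶ E, g = 0) → ∀ g : X ⟶ E, g = 0 := fun E _ X Y f _ h g => by
      rw [← Injective.comp_factorThru g f, h (Injective.factorThru g f), comp_zero]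
    have quot : ∀ (E : C) {X Y : C} (f : X ⟶ Y) [Epi f],
        (∀ g : X ⟶ E, g = 0) → ∀ g : Y ⟶ E, g = 0 := fun E X Y f _ h g => by
      rw [← cancel_epi f, h (f ≫ g), comp_zero]
    have ext' : ∀ (E : C) {S : ShortComplex C}, S.ShortExact → (∀ g : S.X₁ ⟶ E, g = 0) →
        (∀ g : S.X₃ ⟶ E, g = 0) → ∀ g : S.X₂ ⟶ E, g = 0 := fun E S hS h₁ h₃ g => by
      haveI := hS.epi_g
      rw [← hS.exact.g_desc g (h₁ _), h₃ (hS.exact.desc g (h₁ _)), comp_zero]
    haveI : (orth E₀ E₁).IsClosedUnderSubobjects :=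
      ⟨fun f _ h => ⟨sub E₀ f h.1, sub E₁ f h.2⟩⟩
    haveI : (orth E₀ E₁).IsClosedUnderQuotients :=
      ⟨fun f _ h => ⟨quot E₀ f h.1, quot E₁ f h.2⟩⟩
    haveI : (orth E₀ E₁).IsClosedUnderExtensions :=
      ⟨fun hS h₁ h₃ => ⟨ext' E₀ hS h₁.1 h₃.1, ext' E₁ hS h₁.2 h₃.2⟩⟩
    exact {}
  isClosedUnderCoproducts J :=
    ⟨fun _ ⟨c⟩ =>
      ⟨fun f => c.isColimit.hom_ext fun j => by rw [comp_zero]; exact (c.prop_diag_obj j).1 _,
        fun f => c.isColimit.hom_ext fun j => by rw [comp_zero]; exact (c.prop_diag_obj j).2 _⟩⟩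

theorem le_locClosure (P : ObjectProperty C) : P ≤ _root_.GabLoc.locClosure.{w} P :=
  fun _ hY _ _ hQ => hQ _ hY

theorem hom_envelope_eq_zero {M E : C} (i : M ⟶ E) [Mono i] (hi : IsEss i) (P : ObjectProperty C)
    [P.IsClosedUnderSubobjects] [P.IsClosedUnderQuotients]
    (hM : ∀ ⦃Y : C⦄, P Y → ∀ f : Y ⟶ M, f = 0) {Y : C} (hY : P Y) (f : Y ⟶ E) : f = 0 := by
  haveI : Mono (i ≫ cokernel.π f) := by
    refine Preadditive.mono_of_cancel_zero _ fun {Z} g hg => ?_
    rw [← Category.assoc] at hg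
    let l : Z ⟶ Abelian.image f := kernel.lift _ (g ≫ i) hg
    have hl : l ≫ Abelian.image.ι f = g ≫ i := kernel.lift_ι _ _ _
    have hW : P (pullback (Abelian.image.ι f) i) :=
      P.prop_of_mono (pullback.fst (Abelian.image.ι f) i) (P.prop_of_epi (Abelian.factorThruImage f) hY)
    rw [← pullback.lift_snd l g hl, hM hW (pullback.snd _ _), comp_zero]
  haveI := hi _ this
  exact zero_of_comp_mono (cokernel.π f) (cokernel.condition f)

variable [IsGrothendieckAbelian.{w} C]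

theorem isClosedFor_locClosure (P : ObjectProperty C) [P.IsClosedUnderSubobjects]
    [P.IsClosedUnderQuotients] (M : C) (hM : _root_.GabLoc.IsClosedFor P M) :
    _root_.GabLoc.IsClosedFor (_root_.GabLoc.locClosure.{w} P) M := by
  obtain ⟨E₀, i, hi, hE₀, hiess⟩ := exists_envelope.{w} M
  obtain ⟨E₁, j, hj, hE₁, hjess⟩ := exists_envelope.{w} (cokernel i)
  haveI := hi; haveI := hj; haveI := hE₀; haveI := hE₁
  have h0 : ∀ ⦃Y : C⦄, P Y → ∀ f : Y ⟶ E₀, f = 0 := fun Y hY f =>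
    hom_envelope_eq_zero i hiess P hM.1 hY f
  have hQ : ∀ ⦃Y : C⦄, P Y → ∀ f : Y ⟶ cokernel i, f = 0 := by
    intro Y hY f
    let i' : M ⟶ pullback (cokernel.π i) f := pullback.lift i 0 (by simp)
    have hi' : i' ≫ pullback.snd _ _ = 0 := pullback.lift_snd _ _ _
    haveI : Mono i' := mono_of_mono_fac (pullback.lift_fst _ _ _ : i' ≫ pullback.fst _ _ = i)
    have hex : (ShortComplex.mk i' (pullback.snd (cokernel.π i) f) hi').ShortExact := by
      refine { exact := ShortComplex.exact_of_f_is_kernel _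
                (KernelFork.IsLimit.ofι' i' hi' fun {W} x hx => ?_) }
      have hx' : (x ≫ pullback.fst (cokernel.π i) f) ≫ cokernel.π i = 0 := by
        rw [Category.assoc, pullback.condition, ← Category.assoc, hx, zero_comp]
      refine ⟨Abelian.monoLift i _ hx', pullback.hom_ext ?_ ?_⟩
      · rw [Category.assoc, pullback.lift_fst, Abelian.monoLift_comp]
      · rw [Category.assoc, hi', comp_zero]; exact hx.symm
    obtain ⟨⟨r, hr⟩⟩ := hM.2 i' _ hi' hY hex
    let σ := ShortComplex.Splitting.ofExactOfRetraction _ hex.exact r hr hex.epi_g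
    have hs : σ.s ≫ pullback.snd (cokernel.π i) f = 𝟙 Y := σ.s_g
    rw [← Category.id_comp f, ← hs, Category.assoc, ← pullback.condition, ← Category.assoc,
      h0 hY (σ.s ≫ pullback.fst _ _), zero_comp]
  have hle : _root_.GabLoc.locClosure.{w} P ≤ orth E₀ E₁ := fun Y hY =>
    hY _ (isLocalizing_orth E₀ E₁) fun Z hZ => ⟨h0 hZ, fun f => hom_envelope_eq_zero j hjess P hQ hZ f⟩
  refine ⟨fun Y hY f => zero_of_comp_mono i ((hle Y hY).1 (f ≫ i)), fun N Y k p hp hY hex => ?_⟩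
  haveI := hex.mono_f
  haveI := hex.epi_g
  let h := Injective.factorThru i k
  have hk : k ≫ h = i := Injective.comp_factorThru _ _
  have hkπ : k ≫ (h ≫ cokernel.π i) = 0 := by rw [← Category.assoc, hk, cokernel.condition]
  have hd : hex.exact.desc (h ≫ cokernel.π i) hkπ = 0 := zero_of_comp_mono j ((hle Y hY).2 _)
  have hhπ : h ≫ cokernel.π i = 0 := by
    rw [← hex.exact.g_desc (h ≫ cokernel.π i) hkπ, hd, comp_zero]
  exact ⟨⟨{ retraction := Abelian.monoLift i h hhπ
            id := by rw [← cancel_mono i, Category.assoc, Abelian.monoLift_comp, hk, Category.id_comp] }⟩⟩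

theorem isClosedFor_mono {P Q : ObjectProperty C} (h : P ≤ Q) {M : C}
    (hM : _root_.GabLoc.IsClosedFor Q M) : _root_.GabLoc.IsClosedFor P M :=
  ⟨fun Y hY => hM.1 (h Y hY), fun N Y i p hp hY => hM.2 i p hp (h Y hY)⟩

/-- An indecomposable injective is uniform, in torsion form. -/
theorem hasTorsion_inf (E : C) [Injective E]
    (hind : ∀ (A B : C), Nonempty (E ≅ A ⊞ B) → IsZero A ∨ IsZero B) (S₁ S₂ : ObjectProperty C)
    [S₁.IsClosedUnderSubobjects] [S₁.IsClosedUnderQuotients] [S₂.IsClosedUnderSubobjects]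
    [S₂.IsClosedUnderQuotients] (ht₁ : _root_.GabLoc.HasTorsion S₁ E)
    (ht₂ : _root_.GabLoc.HasTorsion S₂ E) : _root_.GabLoc.HasTorsion (S₁ ⊓ S₂) E := by
  obtain ⟨Y₁, hY₁, f₁, hf₁⟩ := ht₁
  obtain ⟨Y₂, hY₂, f₂, hf₂⟩ := ht₂
  obtain ⟨E₁, i, hi, hE₁, hiess⟩ := exists_envelope.{w} (Abelian.image f₁)
  haveI := hi; haveI := hE₁
  let b : E₁ ⟶ E := Injective.factorThru (Abelian.image.ι f₁) i
  have hb : i ≫ b = Abelian.image.ι f₁ := Injective.comp_factorThru _ _
  haveI : Mono b := hiess b (by rw [hb]; infer_instance)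
  let r : E ⟶ E₁ := Injective.factorThru (𝟙 E₁) b
  let σ := ShortComplex.Splitting.ofExactOfRetraction
    (ShortComplex.mk b (cokernel.π b) (cokernel.condition b)) (ShortComplex.exact_cokernel b) r
    (Injective.comp_factorThru _ _) inferInstance
  haveI : IsIso b := by
    rcases hind _ _ ⟨σ.isoBinaryBiproduct⟩ with h | h
    · refine absurd ?_ hf₁
      rw [← Abelian.image.fac f₁, ← hb, (h.eq_of_src b 0), comp_zero, comp_zero]
    · haveI : Epi b := Abelian.epi_of_cokernel_π_eq_zero b (h.eq_of_tgt _ _)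
      exact isIso_of_mono_of_epi b
  refine ⟨pullback (Abelian.image.ι f₁) (Abelian.image.ι f₂),
    ⟨S₁.prop_of_mono (pullback.fst _ _) (S₁.prop_of_epi (Abelian.factorThruImage f₁) hY₁),
      S₂.prop_of_mono (pullback.snd _ _) (S₂.prop_of_epi (Abelian.factorThruImage f₂) hY₂)⟩,
    pullback.fst _ _ ≫ Abelian.image.ι f₁, fun h0 => hf₂ ?_⟩
  haveI : Mono (Abelian.image.ι f₁ ≫ cokernel.π (Abelian.image.ι f₂)) := by
    refine Preadditive.mono_of_cancel_zero _ fun {Z} g hg => ?_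
    rw [← Category.assoc] at hg
    have hw : g ≫ Abelian.image.ι f₁ = Abelian.monoLift (Abelian.image.ι f₂) _ hg ≫ Abelian.image.ι f₂ :=
      (Abelian.monoLift_comp _ _ hg).symm
    refine zero_of_comp_mono (Abelian.image.ι f₁) ?_
    rw [← pullback.lift_fst g _ hw, Category.assoc, h0, comp_zero]
  haveI : Mono (i ≫ b ≫ cokernel.π (Abelian.image.ι f₂)) := by rw [← Category.assoc, hb]; infer_instance
  haveI : Mono (b ≫ cokernel.π (Abelian.image.ι f₂)) := hiess _ inferInstance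
  have h2 : Abelian.image.ι f₂ = 0 := by
    refine zero_of_comp_mono (inv b ≫ b ≫ cokernel.π (Abelian.image.ι f₂)) ?_
    rw [IsIso.inv_hom_id_assoc, cokernel.condition]
  rw [← Abelian.image.fac f₂, h2, comp_zero]

end Groth.L04.GabLoc
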