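import Mathlib.CategoryTheory.Abelian.GrothendieckCategory.EnoughInjectives
import Mathlib.CategoryTheory.Abelian.GrothendieckCategory.Subobject
import Mathlib.CategoryTheory.Subobject.Limits
import Mathlib.Order.Zorn

/-! Injective envelopes in Grothendieck abelian categories. -/

set_option autoImplicit false

universe w v u

open CategoryTheory CategoryTheory.Limits

namespace Groth.L04.GabLoc

variable {C : Type u} [Category.{v} C] [Abelian C]

/-- Essential monomorphisms: a map is mono as soon as its restriction is. -/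
def IsEss {M N : C} (i : M ⟶ N) : Prop := ∀ ⦃Z : C⦄ (g : N ⟶ Z), Mono (i ≫ g) → Mono g

theorem eq_bot_of_arrow_eq_zero {X : C} {P : Subobject X} (h : P.arrow = 0) : P = ⊥ := by
  rw [← Subobject.mk_arrow P, Subobject.mk_eq_bot_iff_zero.2 h]

theorem inf_eq_bot_iff_mono {X : C} (S N : Subobject X) :
    S ⊓ N = ⊥ ↔ Mono (N.arrow ≫ cokernel.π S.arrow) := by
  constructor
  · intro h
    refine Preadditive.mono_of_cancel_zero _ fun {Z} g hg => ?_
    rw [← Category.assoc] at hg
    have hf : S.Factors (g ≫ N.arrow) :=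
      (Subobject.factors_iff _ _).2 ⟨Abelian.monoLift S.arrow _ hg, Abelian.monoLift_comp _ _ hg⟩
    have h2 : (S ⊓ N).Factors (g ≫ N.arrow) :=
      (Subobject.inf_factors _).2 ⟨hf, (Subobject.factors_iff _ _).2 ⟨g, rfl⟩⟩
    rw [h, Subobject.bot_factors_iff_zero] at h2
    exact zero_of_comp_mono _ h2
  · intro h
    refine eq_bot_of_arrow_eq_zero ?_
    rw [← Subobject.ofLE_arrow (inf_le_right : S ⊓ N ≤ N)]
    have : Subobject.ofLE (S ⊓ N) N inf_le_right = 0 := by
      refine zero_of_comp_mono (N.arrow ≫ cokernel.π S.arrow) ?_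
      rw [Subobject.ofLE_arrow_assoc, ← Subobject.ofLE_arrow (inf_le_left : S ⊓ N ≤ S),
        Category.assoc, cokernel.condition, comp_zero]
    rw [this, zero_comp]

theorem inf_mk_eq_bot_iff_mono {X Y : C} (S : Subobject X) (f : Y ⟶ X) [Mono f] :
    S ⊓ Subobject.mk f = ⊥ ↔ Mono (f ≫ cokernel.π S.arrow) := by
  rw [inf_eq_bot_iff_mono]
  constructor
  · intro h
    rw [← Subobject.underlyingIso_arrow f, Category.assoc]
    infer_instance
  · intro h
    rw [← Subobject.underlyingIso_hom_comp_eq_mk, Category.assoc]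
    infer_instance

section Grothendieck

variable [IsGrothendieckAbelian.{w} C]

theorem inf_iSup_eq_bot {X : C} {J : Type w} [Preorder J] [Nonempty J] [IsDirectedOrder J]
    (N : J → Subobject X) (hN : Monotone N) (S : Subobject X) (h : ∀ j, S ⊓ N j = ⊥) :
    S ⊓ (⨆ j, N j) = ⊥ := by
  haveI : ∀ j, Mono ((N j).arrow ≫ cokernel.π S.arrow) := fun j => (inf_eq_bot_iff_mono _ _).1 (h j)
  let F : J ⥤ MonoOver X :=
    { obj := fun j => MonoOver.mk (N j).arrow
      map := fun {i j} f => MonoOver.homMk (Subobject.ofLE (N i) (N j) (hN f.le))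
        (Subobject.ofLE_arrow _)
      map_id := fun j => Subsingleton.elim _ _
      map_comp := fun f g => Subsingleton.elim _ _ }
  let F' : J ⥤ MonoOver (cokernel S.arrow) :=
    { obj := fun j => MonoOver.mk ((N j).arrow ≫ cokernel.π S.arrow)
      map := fun {i j} f => MonoOver.homMk (Subobject.ofLE (N i) (N j) (hN f.le))
        (Subobject.ofLE_arrow_assoc _ _)
      map_id := fun j => Subsingleton.elim _ _
      map_comp := fun f g => Subsingleton.elim _ _ }
  let D : J ⥤ C := F ⋙ MonoOver.forget _ ⋙ Over.forget _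
  let f : colimit D ⟶ X := colimit.desc D
    { pt := X
      ι := { app := fun j => (N j).arrow
             naturality := fun i j g => by
               change Subobject.ofLE (N i) (N j) _ ≫ (N j).arrow = (N i).arrow ≫ 𝟙 X
               rw [Subobject.ofLE_arrow, Category.comp_id] } }
  have hf : ∀ j, colimit.ι D j ≫ f = (N j).arrow := fun j => colimit.ι_desc _ _
  haveI := IsGrothendieckAbelian.mono_of_isColimit_monoOver F (colimit.isColimit D) f hf
  have hsup := IsGrothendieckAbelian.subobjectMk_of_isColimit_eq_iSup F (colimit.isColimit D) f hf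
  have hg : Mono (f ≫ cokernel.π S.arrow) :=
    IsGrothendieckAbelian.mono_of_isColimit_monoOver F' (c := colimit.cocone D) (colimit.isColimit D)
      (f ≫ cokernel.π S.arrow) (fun j => by
        change colimit.ι D j ≫ f ≫ _ = (N j).arrow ≫ _
        rw [← Category.assoc, hf]
        rfl)
  have h1 := (inf_mk_eq_bot_iff_mono S f).2 hg
  have h2 : Subobject.mk f = ⨆ j, N j := hsup.trans (iSup_congr fun j => Subobject.mk_arrow (N j))
  rwa [h2] at h1

theorem inf_sSup_chain_eq_bot {X : C} {c : Set (Subobject X)} (hc : IsChain (· ≤ ·) c)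
    (hne : c.Nonempty) (S : Subobject X) (h : ∀ N ∈ c, S ⊓ N = ⊥) : S ⊓ sSup c = ⊥ := by
  let e := equivShrink.{w} c
  letI : Preorder (Shrink.{w} c) := Preorder.lift e.symm
  haveI : Nonempty (Shrink.{w} c) := ⟨e ⟨_, hne.some_mem⟩⟩
  haveI : IsDirectedOrder (Shrink.{w} c) := ⟨fun i j => by
    rcases hc.total (e.symm i).2 (e.symm j).2 with hij | hji
    · exact ⟨j, hij, le_refl (e.symm j)⟩
    · exact ⟨i, le_refl (e.symm i), hji⟩⟩
  have := inf_iSup_eq_bot (fun j => (e.symm j).1) (fun i j hij => hij) S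
    (fun j => h _ (e.symm j).2)
  rwa [e.symm.surjective.iSup_comp (fun N : c => N.1), ← sSup_eq_iSup'] at this

/-- Existence of injective envelopes. -/
theorem exists_envelope (M : C) :
    ∃ (E : C) (i : M ⟶ E), Mono i ∧ Injective E ∧ IsEss i := by
  let p := (EnoughInjectives.presentation M).some
  haveI := p.injective
  let M0 := Subobject.mk p.f
  let A : Set (Subobject p.J) := {N | M0 ≤ N ∧ ∀ S, S ≤ N → S ⊓ M0 = ⊥ → S = ⊥}
  obtain ⟨N, hMN, hmax⟩ := zorn_le_nonempty₀ A (fun c hcA hc y hy => by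
    refine ⟨sSup c, ⟨(hcA hy).1.trans (le_sSup hy), fun S hS hS0 => ?_⟩, fun z hz => le_sSup hz⟩
    have h1 := inf_sSup_chain_eq_bot hc ⟨y, hy⟩ S (fun N' hN' => (hcA hN').2 (S ⊓ N') inf_le_right
      (le_bot_iff.1 ((inf_le_inf_right M0 inf_le_left).trans hS0.le)))
    rwa [inf_eq_left.2 hS] at h1) M0 ⟨le_rfl, fun S hS h0 => by rwa [inf_eq_left.2 hS] at h0⟩
  have hN : N ∈ A := hmax.1
  let B : Set (Subobject p.J) := {K | K ⊓ N = ⊥}
  obtain ⟨K, -, hKmax⟩ := zorn_le_nonempty₀ B (fun c hcB hc y hy =>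
    ⟨sSup c, by
      change sSup c ⊓ N = ⊥
      rw [inf_comm]
      exact inf_sSup_chain_eq_bot hc ⟨y, hy⟩ N (fun K hK => by rw [inf_comm]; exact hcB hK),
      fun z hz => le_sSup hz⟩) ⊥ (bot_inf_eq N)
  have hK : K ⊓ N = ⊥ := hKmax.1
  let q := cokernel.π K.arrow
  haveI : Mono (N.arrow ≫ q) := (inf_eq_bot_iff_mono K N).1 hK
  let b : cokernel K.arrow ⟶ p.J := Injective.factorThru N.arrow (N.arrow ≫ q)
  have hb : (N.arrow ≫ q) ≫ b = N.arrow := Injective.comp_factorThru _ _
  have haess : IsEss (N.arrow ≫ q) := by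
    intro Z g hg
    have hker : Subobject.mk (kernel.ι (q ≫ g)) ∈ B := by
      have : Mono ((N.arrow ≫ q) ≫ g) := hg
      refine eq_bot_of_arrow_eq_zero ?_
      rw [← Subobject.ofLE_arrow (inf_le_right : Subobject.mk (kernel.ι (q ≫ g)) ⊓ N ≤ N)]
      have : Subobject.ofLE _ N (inf_le_right : Subobject.mk (kernel.ι (q ≫ g)) ⊓ N ≤ N) = 0 := by
        refine zero_of_comp_mono ((N.arrow ≫ q) ≫ g) ?_
        rw [Category.assoc, Subobject.ofLE_arrow_assoc,
          ← Subobject.ofLE_arrow (inf_le_left : Subobject.mk (kernel.ι (q ≫ g)) ⊓ N ≤ _),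
          ← Subobject.underlyingIso_hom_comp_eq_mk, Category.assoc, Category.assoc,
          kernel.condition, comp_zero, comp_zero]
      rw [this, zero_comp]
    have hKle : K ≤ Subobject.mk (kernel.ι (q ≫ g)) :=
      Subobject.le_mk_of_comm (kernel.lift _ K.arrow (by
        rw [← Category.assoc, cokernel.condition, zero_comp])) (kernel.lift_ι _ _ _)
    have hKge := hKmax.2 hker hKle
    refine Preadditive.mono_of_cancel_zero _ fun {W} y hy => ?_
    obtain ⟨W', π, hπ, x, hx⟩ := surjective_up_to_refinements_of_epi q y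
    have hx' : x ≫ q ≫ g = 0 := by rw [← Category.assoc, ← hx, Category.assoc, hy, comp_zero]
    have hxK : x ≫ q = 0 := by
      rw [← kernel.lift_ι _ x hx', ← Subobject.underlyingIso_arrow (kernel.ι (q ≫ g)),
        ← Subobject.ofLE_arrow hKge, Category.assoc, Category.assoc, Category.assoc,
        cokernel.condition, comp_zero, comp_zero, comp_zero]
    rw [← cancel_epi π, hx, hxK, comp_zero]
  haveI : Mono b := haess b (by rw [hb]; infer_instance)
  have himg : Subobject.mk b ∈ A := by
    refine ⟨hN.1.trans (Subobject.le_mk_of_comm (N.arrow ≫ q) hb), fun S hS hS0 => ?_⟩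
    have h1 : S ⊓ N = ⊥ := hN.2 (S ⊓ N) inf_le_right
      (le_bot_iff.1 ((inf_le_inf_right M0 inf_le_left).trans hS0.le))
    have h2 : Mono (b ≫ cokernel.π S.arrow) := by
      refine haess _ ?_
      rw [← Category.assoc, hb]
      exact (inf_eq_bot_iff_mono S N).1 h1
    rw [← inf_eq_left.2 hS]
    exact (inf_mk_eq_bot_iff_mono S b).2 h2
  have hble : Subobject.mk b ≤ N := hmax.2 himg (Subobject.le_mk_of_comm (N.arrow ≫ q) hb)
  let r : cokernel K.arrow ⟶ (N : C) := (Subobject.underlyingIso b).inv ≫ Subobject.ofLE _ _ hble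
  have hr : r ≫ N.arrow = b := by
    rw [Category.assoc, Subobject.ofLE_arrow, Subobject.underlyingIso_arrow]
  have hret : N.arrow ≫ q ≫ r = 𝟙 _ := by
    rw [← cancel_mono N.arrow, Category.assoc, Category.assoc, hr, ← Category.assoc, hb, Category.id_comp]
  have hinj : Injective (N : C) := ⟨fun g f _ => ⟨Injective.factorThru (g ≫ N.arrow) f ≫ q ≫ r, by
    rw [← Category.assoc, Injective.comp_factorThru, Category.assoc, hret, Category.comp_id]⟩⟩
  refine ⟨(N : C), (Subobject.underlyingIso p.f).inv ≫ Subobject.ofLE M0 N hN.1, inferInstance, hinj, ?_⟩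
  intro Z g hg
  haveI := hinj
  have hker : Subobject.mk (kernel.ι g ≫ N.arrow) = ⊥ := by
    refine hN.2 _ (Subobject.mk_le_of_comm (kernel.ι g) rfl) (eq_bot_of_arrow_eq_zero ?_)
    set S := Subobject.mk (kernel.ι g ≫ N.arrow)
    let s : ((S ⊓ M0 : Subobject p.J) : C) ⟶ M :=
      Subobject.ofLE _ M0 inf_le_right ≫ (Subobject.underlyingIso p.f).hom
    let i := (Subobject.underlyingIso p.f).inv ≫ Subobject.ofLE M0 N hN.1
    have hs : s ≫ i ≫ N.arrow = (S ⊓ M0).arrow := by
      simp [s, i, Subobject.ofLE_arrow]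
    have hs0 : s = 0 := by
      refine zero_of_comp_mono (i ≫ g) ?_
      have h3 : s ≫ i = Subobject.ofLE _ S inf_le_left ≫
          (Subobject.underlyingIso (kernel.ι g ≫ N.arrow)).hom ≫ kernel.ι g := by
        rw [← cancel_mono N.arrow, Category.assoc, hs, Category.assoc, Category.assoc,
          Subobject.underlyingIso_hom_comp_eq_mk, Subobject.ofLE_arrow]
      rw [← Category.assoc, h3, Category.assoc, Category.assoc, kernel.condition, comp_zero, comp_zero]
    rw [← hs, hs0, zero_comp]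
  rw [Subobject.mk_eq_bot_iff_zero] at hker
  exact Preadditive.mono_of_kernel_zero (zero_of_comp_mono _ hker)

end Grothendieck

end Groth.L04.GabLoc
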